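import Cfsg.Agent.H678.PV.CoSym
import Cfsg.Agent.H94.IMCPerm_m3
import Cfsg.Agent.Prune
set_option linter.all false
prune_inst 0x7f00000000000000000000000000000000000000000000000000000000000000000000000000000000000000000000000000000000000000000000000000000000000000000000000000000000000000003fffffffffffffffffffffffffffbeffbdffffffff
open scoped Cfsg.Agent.FastGrp

/-!
# `IMC` from permutation characters (helper705)

* `imc_of_inner` : a constituent of degree divisible by `p` of the permutation character on a set of size prime to `p`;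
* `irr_other'` : the third constituent of a permutation character of rank 3, as a function;
* `inner_pc_prod` : the inner product of two permutation characters is the number of orbits on the product;
* `le_orbits` : an invariant with many values.
-/

set_option autoImplicit false

namespace Cfsg.Agent.H705.Imc

open Cfsg Cfsg.Agent.H713 Cfsg.Agent.Characters.Core
open Cfsg.Agent.Blocks.Basic (irr_one_eq_charDegree charDegree_pos)
open Cfsg.Agent.H713.Spor.RankThree (pc inner_pc_one inner_pc_self pc_one sum_fixedBy)
open Cfsg.Agent.S0157 (isCharacter_fixedBy avg_fixedBy card_fixedBy_prod card_orbits_of_pretransitive)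
open Cfsg.Agent.H625.SylConst
open scoped ComplexConjugate
open MulAction

universe u

/-- A constituent of degree divisible by `p` of the permutation character on a set of size prime to `p`. -/
theorem imc_of_inner {G : Type u} [Group G] [Fintype G] {p : ℕ} [hp : Fact p.Prime] (X : Type*) [MulAction G X]
    [Finite X] [IsPretransitive G X] (hX : ¬ p ∣ Nat.card X) (χ : IrrCharacter G)
    (hd : p ∣ charDegree (χ : G → ℂ)) (h : classInner (pc G X) (χ : G → ℂ) ≠ 0) : IMC p G := by
  classical
  have := Fintype.ofFinite X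
  have h1 : classInner (χ : G → ℂ) (pc G X) ≠ 0 := by
    rw [← classInner_conj_symm]
    exact (map_ne_zero _).2 h
  have h2 : ∑ g : G, (χ : G → ℂ) g * (Nat.card (fixedBy X g) : ℂ) ≠ 0 := by
    intro h3
    apply h1
    rw [classInner_def]
    have h4 : ∑ g : G, (χ : G → ℂ) g * conj (pc G X g) = 0 := by
      rw [← h3]
      exact Finset.sum_congr rfl fun g _ => by rw [pc, Complex.conj_natCast]
    rw [h4, mul_zero]
  rw [sum_fixedBy] at h2
  obtain ⟨x, -, hx⟩ := Finset.exists_ne_zero_of_sum_ne_zero h2
  refine IMC.of_le (stabilizer G x) ?_ χ hd hx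
  have h5 : (stabilizer G x).index = Nat.card X := by
    rw [index_stabilizer, orbit_eq_univ, Set.ncard_univ]
  rwa [h5]

variable {G : Type*} [Group G]

/-- The third constituent. -/
theorem irr_other' [Fintype G] (X : Type*) [MulAction G X] [Finite X] [IsPretransitive G X]
    [Nonempty X] (hr : Nat.card (Quotient (orbitRel G (X × X))) ≤ 3) (μ : IrrCharacter G)
    (hμ1 : (μ : G → ℂ) ≠ 1) (hne : classInner (pc G X) μ ≠ 0)
    (hdeg : charDegree (μ : G → ℂ) + 1 < Nat.card X) :
    ∃ χ : IrrCharacter G, charDegree (χ : G → ℂ) = Nat.card X - 1 - charDegree (μ : G → ℂ) ∧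
      pc G X = 1 + (μ : G → ℂ) + (χ : G → ℂ) := by
  obtain ⟨m, hm⟩ := classInner_isNat (isCharacter_fixedBy (G := G) X) (isIrr_isCharacter μ.2)
  change classInner (pc G X) μ = m at hm
  have hm0 : m ≠ 0 := by
    rintro rfl
    exact hne (by rw [hm]; norm_num)
  have hm' : classInner (μ : G → ℂ) (pc G X) = m := by
    rw [← classInner_conj_symm, hm, Complex.conj_natCast]
  have h1 := inner_pc_one (G := G) X
  have h1' : classInner (1 : G → ℂ) (pc G X) = 1 := by
    rw [← classInner_conj_symm, h1, map_one]
  have h2 : classInner (1 : G → ℂ) (μ : G → ℂ) = 0 := classInner_irr_ne isIrr_one μ.2 (Ne.symm hμ1)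
  have h3 : classInner (μ : G → ℂ) 1 = 0 := classInner_irr_ne μ.2 isIrr_one hμ1
  set ψ : G → ℂ := pc G X - (1 + (μ : G → ℂ)) with hψ
  have hgen : IsGeneralizedCharacter G ψ := by
    rw [isGeneralizedCharacter_def]
    exact ⟨_, _, isCharacter_fixedBy X, isCharacter_add isCharacter_one (isIrr_isCharacter μ.2), rfl⟩
  have hval : ψ 1 = ((Nat.card X - 1 - charDegree (μ : G → ℂ) : ℕ) : ℂ) := by
    rw [hψ, Pi.sub_apply, Pi.add_apply, pc_one, irr_one_eq_charDegree μ.2, Nat.sub_sub,
      Nat.cast_sub (by omega)]
    push_cast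
    simp
  have hnorm : classInner ψ ψ = ((Nat.card (Quotient (orbitRel G (X × X))) : ℤ) - 2 * m : ℤ) := by
    rw [hψ, classInner_sub_left, classInner_sub_right, classInner_sub_right, classInner_add_left,
      classInner_add_left, classInner_add_right, classInner_add_right, classInner_add_right,
      inner_pc_self, h1, h1', hm, hm', h2, h3, classInner_irr_self isIrr_one, classInner_irr_self μ.2]
    push_cast
    ring
  have hpos : ψ ≠ 0 := by
    intro h
    rw [h, Pi.zero_apply] at hval
    have : 0 = Nat.card X - 1 - charDegree (μ : G → ℂ) := by exact_mod_cast hval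
    omega
  have hnonneg : 0 < (Nat.card (Quotient (orbitRel G (X × X))) : ℤ) - 2 * m := by
    have h4 := classInner_self_eq_ofReal ψ
    rw [hnorm] at h4
    have h5 : (((Nat.card (Quotient (orbitRel G (X × X))) : ℤ) - 2 * m : ℤ) : ℝ) =
        (Nat.card G : ℝ)⁻¹ * ∑ g : G, Complex.normSq (ψ g) := by exact_mod_cast h4
    have h6 : (0 : ℝ) ≤ (((Nat.card (Quotient (orbitRel G (X × X))) : ℤ) - 2 * m : ℤ) : ℝ) := by
      rw [h5]
      exact mul_nonneg (by positivity) (Finset.sum_nonneg fun _ _ => Complex.normSq_nonneg _)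
    have h7 : (0 : ℤ) ≤ (Nat.card (Quotient (orbitRel G (X × X))) : ℤ) - 2 * m := by exact_mod_cast h6
    refine lt_of_le_of_ne h7 fun h8 => hpos ?_
    apply classInner_self_eq_zero
    rw [hnorm, ← h8]
    norm_num
  have hone : (Nat.card (Quotient (orbitRel G (X × X))) : ℤ) - 2 * m = 1 := by omega
  rw [hone] at hnorm
  rcases isIrr_of_generalized hgen (by rw [hnorm]; norm_num) with h | h
  · refine ⟨⟨ψ, h⟩, ?_, ?_⟩
    · have h4 : ((charDegree ψ : ℕ) : ℂ) = ((Nat.card X - 1 - charDegree (μ : G → ℂ) : ℕ) : ℂ) := by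
        rw [← hval]
        exact (irr_one_eq_charDegree h).symm
      exact_mod_cast h4
    · show pc G X = 1 + (μ : G → ℂ) + ψ
      rw [hψ]
      abel
  · exfalso
    obtain ⟨n, hn, hn'⟩ := isIrr_apply_one h
    rw [Pi.neg_apply, hval] at hn'
    have h4 : ((n : ℤ) : ℂ) + (((Nat.card X - 1 - charDegree (μ : G → ℂ) : ℕ) : ℤ) : ℂ) = 0 := by
      push_cast
      rw [← hn']
      ring
    have h5 : (n : ℤ) + ((Nat.card X - 1 - charDegree (μ : G → ℂ) : ℕ) : ℤ) = 0 := by exact_mod_cast h4
    omega

/-- The inner product of two permutation characters. -/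
theorem inner_pc_prod [Fintype G] (X Y : Type*) [MulAction G X] [Finite X] [MulAction G Y] [Finite Y] :
    classInner (pc G X) (pc G Y) = (Nat.card (Quotient (orbitRel G (X × Y))) : ℂ) := by
  rw [classInner_def, ← avg_fixedBy (G := G) (X × Y)]
  congr 1
  refine Finset.sum_congr rfl fun g _ => ?_
  rw [card_fixedBy_prod, pc, pc, Complex.conj_natCast]
  push_cast
  rfl

/-- An invariant with many values. -/
theorem le_orbits {Z : Type*} [MulAction G Z] [Finite Z] {n : ℕ} {β : Type*} (f : Z → β)
    (hf : ∀ (g : G) z, f (g • z) = f z) (z : Fin n → Z) (hz : Function.Injective (fun i => f (z i))) :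
    n ≤ Nat.card (Quotient (orbitRel G Z)) := by
  have h := Nat.card_le_card_of_injective (fun i : Fin n => (Quotient.mk (orbitRel G Z) (z i))) (by
    intro i j hij
    apply hz
    obtain ⟨g, hg⟩ := Quotient.exact hij
    have hg' : g • z j = z i := hg
    show f (z i) = f (z j)
    rw [← hg', hf])
  simpa using h

end Cfsg.Agent.H705.Imc
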